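import Mathlib

/-!
# Roots of units along thickenings
-/

set_option autoImplicit false
set_option linter.style.haveILetI false
universe u
open CategoryTheory AlgebraicGeometry TopologicalSpace Opposite

noncomputable section

namespace PicTorsLib

variable {X X' : Scheme.{u}} (i : X ⟶ X')

theorem isUnit_of_app [Surjective i] {W : X'.Opens} {r : Γ(X', W)} (h : IsUnit ((i.app W).hom r)) : IsUnit r := by
  refine X'.toRingedSpace.isUnit_of_isUnit_germ W r fun x' hx' => ?_
  obtain ⟨x, rfl⟩ := i.surjective x'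
  have h1 : x ∈ i ⁻¹ᵁ X'.basicOpen r := by
    rw [Scheme.Hom.preimage_basicOpen, X.basicOpen_of_isUnit h]
    exact hx'
  exact (X'.mem_basicOpen r (i x) hx').mp h1

theorem isNilpotent_of_app [Surjective i] [QuasiCompact i] {N : X'.Opens} (hN : IsAffineOpen N) {r : Γ(X', N)}
    (h : IsNilpotent ((i.app N).hom r)) : IsNilpotent r := by
  rw [Scheme.isNilpotent_iff_basicOpen_eq_bot_of_isCompact hN.isCompact, eq_bot_iff]
  intro x' hx'
  obtain ⟨x, rfl⟩ := i.surjective x'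
  have h1 : x ∈ i ⁻¹ᵁ X'.basicOpen r := hx'
  rw [Scheme.Hom.preimage_basicOpen, (Scheme.isNilpotent_iff_basicOpen_eq_bot_of_isCompact
    (i.isCompact_preimage hN.isCompact) _).mp h] at h1
  exact h1.elim

theorem isUnit_natCast [Surjective i] {n : ℕ} (hu : IsUnit (n : Γ(X, ⊤))) (W : X'.Opens) : IsUnit (n : Γ(X', W)) := by
  refine isUnit_of_app i ?_
  have := hu.map (X.presheaf.map (homOfLE (le_top : i ⁻¹ᵁ W ≤ ⊤)).op).hom
  rw [map_natCast] at this ⊢
  exact this

variable [IsClosedImmersion i] [Surjective i] {n : ℕ} (hu : IsUnit (n : Γ(X, ⊤)))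

/-- `C` is the root of `r` lifting `c`. -/
def IsRoot (n : ℕ) (W : X'.Opens) (r : Γ(X', W)) (c : Γ(X, i ⁻¹ᵁ W)) (C : Γ(X', W)) : Prop :=
  C ^ n = r ∧ (i.app W).hom C = c

theorem app_map {W V : X'.Opens} (h : V ≤ W) (C : Γ(X', W)) :
    (i.app V).hom ((X'.presheaf.map (homOfLE h).op).hom C) =
      (X.presheaf.map (homOfLE (i.preimage_mono h)).op).hom ((i.app W).hom C) :=
  congr($(i.naturality (homOfLE h).op).hom C)

theorem IsRoot.map {W V : X'.Opens} (h : V ≤ W) {r : Γ(X', W)} {c : Γ(X, i ⁻¹ᵁ W)} {C : Γ(X', W)}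
    (hC : IsRoot i n W r c C) : IsRoot i n V ((X'.presheaf.map (homOfLE h).op).hom r)
      ((X.presheaf.map (homOfLE (i.preimage_mono h)).op).hom c) ((X'.presheaf.map (homOfLE h).op).hom C) :=
  ⟨by rw [← map_pow, hC.1], by rw [app_map, hC.2]⟩

include hu in
theorem existsUnique_isRoot_affine {N : X'.Opens} (hN : IsAffineOpen N) (r : Γ(X', N)) (c : Γ(X, i ⁻¹ᵁ N))
    (hc : IsUnit c) (hrc : c ^ n = (i.app N).hom r) : ∃! C, IsRoot i n N r c C := by
  obtain ⟨C₀, hC₀⟩ := i.app_surjective N hN c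
  let P : Polynomial Γ(X', N) := Polynomial.X ^ n - Polynomial.C r
  have h0 : IsNilpotent (Polynomial.aeval C₀ P) := by
    refine isNilpotent_of_app i hN ?_
    simp [P, hC₀, hrc]
  have h1 : IsUnit (Polynomial.aeval C₀ (Polynomial.derivative P)) := by
    have hC₀u : IsUnit C₀ := isUnit_of_app i (hC₀.symm ▸ hc)
    simpa [P, Polynomial.derivative_X_pow] using (isUnit_natCast i hu N).mul (hC₀u.pow (n - 1))
  obtain ⟨C, ⟨hCn, hCr⟩, huniq⟩ := Polynomial.existsUnique_nilpotent_sub_and_aeval_eq_zero h0 h1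
  have hroot : ∀ {D}, IsRoot i n N r c D → IsNilpotent (C₀ - D) ∧ Polynomial.aeval D P = 0 := fun {D} hD => by
    refine ⟨isNilpotent_of_app i hN ?_, by simp [P, hD.1]⟩
    rw [map_sub, hC₀, hD.2, sub_self]
    exact IsNilpotent.zero
  refine ⟨C, ⟨by simpa [P, sub_eq_zero] using hCr, ?_⟩, fun D hD => huniq D (hroot hD)⟩
  -- two lifts of a root which differ by a nilpotent reduce to the same element
  have hcC : IsNilpotent (c - (i.app N).hom C) := by
    have := hCn.map (i.app N).hom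
    rwa [map_sub, hC₀] at this
  let Q : Polynomial Γ(X, i ⁻¹ᵁ N) := Polynomial.X ^ n - Polynomial.C ((i.app N).hom r)
  have q0 : IsNilpotent (Polynomial.aeval c Q) := by simp [Q, hrc]
  have hun : IsUnit (n : Γ(X, i ⁻¹ᵁ N)) := by
    have := (isUnit_natCast i hu N).map (i.app N).hom
    rwa [map_natCast] at this
  have q1 : IsUnit (Polynomial.aeval c (Polynomial.derivative Q)) := by
    simpa [Q, Polynomial.derivative_X_pow] using hun.mul (hc.pow (n - 1))
  obtain ⟨E, -, hEuniq⟩ := Polynomial.existsUnique_nilpotent_sub_and_aeval_eq_zero q0 q1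
  have hCpow : C ^ n = r := by simpa [P, sub_eq_zero] using hCr
  exact (hEuniq _ ⟨hcC, by simp [Q, ← map_pow, hCpow]⟩).trans
    (hEuniq c ⟨by simp, by simp [Q, hrc]⟩).symm

include hu in
theorem existsUnique_isRoot (W : X'.Opens) (r : Γ(X', W)) (c : Γ(X, i ⁻¹ᵁ W)) (hc : IsUnit c)
    (hrc : c ^ n = (i.app W).hom r) : ∃! C, IsRoot i n W r c C := by
  let I := {N : X'.affineOpens // N.1 ≤ W}
  have hcov : W ≤ ⨆ N : I, N.1.1 := fun x hx => by
    obtain ⟨N, hN, hxN, hle⟩ := exists_isAffineOpen_mem_and_subset hx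
    exact Opens.mem_iSup.mpr ⟨⟨⟨N, hN⟩, hle⟩, hxN⟩
  have key : ∀ N : X'.affineOpens, ∀ h : N.1 ≤ W, ∃! C, IsRoot i n N.1 ((X'.presheaf.map (homOfLE h).op).hom r)
      ((X.presheaf.map (homOfLE (i.preimage_mono h)).op).hom c) C := fun N h =>
    existsUnique_isRoot_affine i hu N.2 _ _ (hc.map _) (by rw [← map_pow, hrc, app_map])
  choose g hg hguniq using key
  have hg' : ∀ (N M : X'.affineOpens) (h : N.1 ≤ W) (hM : M.1 ≤ N.1),
      (X'.presheaf.map (homOfLE hM).op).hom (g N h) = g M (hM.trans h) := fun N M h hM => by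
    refine hguniq M (hM.trans h) _ ?_
    have := (hg N h).map i hM
    rwa [← CommRingCat.comp_apply, ← Functor.map_comp, ← CommRingCat.comp_apply, ← Functor.map_comp] at this
  obtain ⟨C, hC, hCuniq⟩ := TopCat.Sheaf.existsUnique_gluing' X'.sheaf (fun N : I => N.1.1) W
    (fun N => homOfLE N.2) hcov (fun N => g N.1 N.2) fun N M => by
      refine TopCat.Sheaf.eq_of_locally_eq' X'.sheaf
        (fun T : {T : X'.affineOpens // T.1 ≤ N.1.1 ⊓ M.1.1} => T.1.1) (N.1.1 ⊓ M.1.1)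
        (fun T => homOfLE T.2) (fun x hx => ?_) _ _ fun T => ?_
      · obtain ⟨T, hT, hxT, hle⟩ := exists_isAffineOpen_mem_and_subset hx
        exact Opens.mem_iSup.mpr ⟨⟨⟨T, hT⟩, hle⟩, hxT⟩
      · show (X'.presheaf.map _) ((X'.presheaf.map _) _) = (X'.presheaf.map _) ((X'.presheaf.map _) _)
        rw [← CommRingCat.comp_apply, ← Functor.map_comp, ← CommRingCat.comp_apply, ← Functor.map_comp]
        exact (hg' N.1 T.1 N.2 (T.2.trans inf_le_left)).trans (hg' M.1 T.1 M.2 (T.2.trans inf_le_right)).symm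
  refine ⟨C, ⟨?_, ?_⟩, fun D hD => hCuniq D fun N => hguniq N.1 N.2 _ (hD.map i N.2)⟩
  · refine TopCat.Sheaf.eq_of_locally_eq' X'.sheaf (fun N : I => N.1.1) W (fun N => homOfLE N.2) hcov _ _ fun N => ?_
    refine (map_pow (X'.presheaf.map (homOfLE N.2).op).hom C n).trans ?_
    exact (congrArg (· ^ n) (hC N)).trans (hg N.1 N.2).1
  · refine TopCat.Sheaf.eq_of_locally_eq' X.sheaf (fun N : I => i ⁻¹ᵁ N.1.1) (i ⁻¹ᵁ W)
      (fun N => homOfLE (i.preimage_mono N.2)) ?_ _ _ fun N => ?_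
    · intro x hx
      obtain ⟨N, hN⟩ := Opens.mem_iSup.mp (hcov (show i x ∈ W from hx))
      exact Opens.mem_iSup.mpr ⟨N, hN⟩
    show (X.presheaf.map _).hom ((i.app W).hom C) = _
    rw [← app_map i N.2, show (X'.presheaf.map (homOfLE N.2).op).hom C = g N.1 N.2 from hC N]
    exact (hg N.1 N.2).2

end PicTorsLib
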