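import Groth.Agent.MiscFlat6.TwistMod
import Groth.Agent.AmpleThLib.Pow
import Groth.Agent.KFlatLib.AffinePull
import Groth.Agent.PicTorsLib.Roots

/-!
# Torsion line bundles lift along thickenings
-/

set_option autoImplicit false
set_option linter.style.haveILetI false
universe u
open CategoryTheory CategoryTheory.Limits AlgebraicGeometry TopologicalSpace Opposite
open AmpleLib AmpleThLib MiscFlat6 KFlatLib

noncomputable section

namespace PicTorsLib

theorem one_res {Z : Scheme.{u}} {U V : Z.Opens} (h : V ≤ U) :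
    res (Coh.structureModule Z) h (show Γ(Coh.structureModule Z, U) from (1 : Γ(Z, U))) = (1 : Γ(Z, V)) :=
  map_one (Z.presheaf.map (homOfLE h).op).hom

theorem smul_one_O {Z : Scheme.{u}} {V : Z.Opens} (r : Γ(Z, V)) :
    r • (show Γ(Coh.structureModule Z, V) from (1 : Γ(Z, V))) = r := mul_one r

theorem genOn_of_isUnit {Z : Scheme.{u}} {U : Z.Opens} {u : Γ(Z, U)} (hu : IsUnit u) :
    GenOn (Coh.structureModule Z) (show Γ(Coh.structureModule Z, U) from u) :=
  TwistLib.genOn_of_genAt fun x hx => by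
    have h := (genAt_smul_iff u (show Γ(Coh.structureModule Z, U) from (1 : Γ(Z, U))) hx ((one_genOn U).genAt hx)).2
      (by rwa [Z.basicOpen_of_isUnit hu])
    rwa [smul_one_O] at h

theorem isUnit_of_genOn_O {Z : Scheme.{u}} {U : Z.Opens} {u : Γ(Z, U)}
    (h : GenOn (Coh.structureModule Z) (show Γ(Coh.structureModule Z, U) from u)) : IsUnit u := by
  obtain ⟨b, hb⟩ := (h U le_rfl).2 (show Γ(Coh.structureModule Z, U) from (1 : Γ(Z, U)))
  dsimp only at hb
  rw [res_refl] at hb
  exact isUnit_iff_exists_inv'.2 ⟨b, hb⟩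

theorem genOn_puSecLE' {X Y : Scheme.{u}} (g : X ⟶ Y) {L : Y.Modules} {U : Y.Opens} {e : Γ(L, U)} (he : GenOn L e)
    {V : X.Opens} (h : V ≤ g ⁻¹ᵁ U) : GenOn (pb g L) (puSecLE g L h e) :=
  TwistLib.genOn_of_genAt fun z hz => by
    rw [KFlatLib.puSecLE_apply]
    exact (AmpleLib.genAt_res h (puSec g e) hz).2 (TwistLib.GenAt.puSec g (he.genAt (h hz)))

theorem puSecLE_res' {X Y : Scheme.{u}} (g : X ⟶ Y) (L : Y.Modules) {U U' : Y.Opens} (hU : U' ≤ U) {V : X.Opens}
    (h : V ≤ g ⁻¹ᵁ U') (m : Γ(L, U)) :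
    puSecLE g L h (res L hU m) = puSecLE g L (h.trans (g.preimage_mono hU)) m := by
  rw [KFlatLib.puSecLE_apply, KFlatLib.puSecLE_apply]
  refine (congrArg ((pb g L).presheaf.map (homOfLE h).op)
    (QCohLib.app_map ((Scheme.Modules.pullbackPushforwardAdjunction g).unit.app L) (homOfLE hU) m)).trans ?_
  exact QCohLib.map_map' (pb g L) (homOfLE h) (homOfLE (g.preimage_mono hU)) (puSec g m)

theorem res_puSecLE' {X Y : Scheme.{u}} (g : X ⟶ Y) (L : Y.Modules) {U : Y.Opens} {V V' : X.Opens}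
    (h : V ≤ g ⁻¹ᵁ U) (hV : V' ≤ V) (m : Γ(L, U)) :
    res (pb g L) hV (puSecLE g L h m) = puSecLE g L (hV.trans h) m := by
  rw [KFlatLib.puSecLE_apply, KFlatLib.puSecLE_apply]
  exact AmpleLib.res_res (pb g L) h hV (puSec g m)

theorem genOn_iso {Z : Scheme.{u}} {M N : Z.Modules} (φ : M ≅ N) {U : Z.Opens} {e : Γ(M, U)} (he : GenOn M e) :
    GenOn N (φ.hom.app U e) := fun V hV => by
  have h1 : (fun r : Γ(Z, V) => r • res N hV (φ.hom.app U e)) = (φ.hom.app V) ∘ fun r => r • res M hV e :=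
    funext fun r => by
      show r • N.presheaf.map _ (φ.hom.app U e) = φ.hom.app V (r • M.presheaf.map _ e)
      rw [QCohLib.app_smul, QCohLib.app_map]
  rw [h1]
  exact (ConcreteCategory.bijective_of_isIso (φ.hom.app V)).comp (he V hV)

variable {X X' : Scheme.{u}}

theorem exists_lift (i : X ⟶ X') [IsClosedImmersion i] [Surjective i] {n : ℕ} (hn : IsUnit (n : Γ(X, ⊤)))
    {L : X.Modules} (hL : PicF.IsInvertible L) (φ : CohB1.tensorPow L n ≅ Coh.structureModule X) :
    ∃ L' : X'.Modules, PicF.IsInvertible L' ∧ Nonempty (CohB1.tensorPow L' n ≅ Coh.structureModule X') ∧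
      Nonempty ((Scheme.Modules.pullback i).obj L' ≅ L) := by
  classical
  -- charts
  let u : ∀ a : Gens L, Γ(X, a.1) := fun a => φ.hom.app a.1 (pS a.2.1 n)
  have huu : ∀ a, IsUnit (u a) := fun a => isUnit_of_genOn_O (genOn_iso φ (pS_genOn a.2.2 n))
  let G : Type u := {p : (X'.affineOpens × Gens L) // i ⁻¹ᵁ p.1.1 ≤ p.2.1}
  let D : G → X'.Opens := fun a => a.1.1.1
  have hcov : ∀ x' : X', ∃ a, x' ∈ D a := fun x' => by
    obtain ⟨x, rfl⟩ := i.surjective x'
    obtain ⟨a, ha⟩ := gens_cover hL x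
    obtain ⟨W, hW, hWa⟩ := i.isEmbedding.isInducing.isOpen_iff.mp a.1.2
    obtain ⟨N, hN, hxN, hle⟩ := exists_isAffineOpen_mem_and_subset (X := X') (x := i x) (U := ⟨W, hW⟩)
      (show x ∈ i ⁻¹' W by rw [hWa]; exact ha)
    exact ⟨⟨(⟨N, hN⟩, a), fun y hy => hWa.le (hle hy)⟩, hxN⟩
  let e : ∀ a : G, Γ(L, i ⁻¹ᵁ D a) := fun a => res L a.2 a.1.2.2.1
  have he : ∀ a, GenOn L (e a) := fun a => a.1.2.2.2.res a.2
  let v : ∀ a : G, Γ(X, i ⁻¹ᵁ D a) := fun a => rX a.2 (u a.1.2)
  have hlift : ∀ a : G, ∃ w : Γ(X', D a), (i.app (D a)).hom w = v a := fun a => i.app_surjective _ a.1.1.2 _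
  choose w hw using hlift
  have hwu : ∀ a, IsUnit (w a) := fun a => isUnit_of_app i (by rw [hw]; exact (huu a.1.2).map _)
  -- the transition functions on `X`
  have hrel : ∀ (a b : G) (V : X.Opens) (ha : V ≤ i ⁻¹ᵁ D a) (hb : V ≤ i ⁻¹ᵁ D b) (c : Γ(X, V)),
      c • res L ha (e a) = res L hb (e b) → c ^ n * rX ha (v a) = rX hb (v b) ∧ IsUnit c := fun a b V ha hb c hc => by
    have h1 : pS (c • res L ha (e a)) n = pS (res L hb (e b)) n := by rw [hc]
    rw [pS_smul, res_res, res_res, ← pS_res, ← pS_res] at h1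
    have h2 : c ^ n • res (Coh.structureModule X) (ha.trans a.2) (φ.hom.app a.1.2.1 (pS a.1.2.2.1 n)) =
        res (Coh.structureModule X) (hb.trans b.2) (φ.hom.app b.1.2.1 (pS b.1.2.2.1 n)) := by
      have h3 := congrArg (φ.hom.app V) h1
      rw [QCohLib.app_smul] at h3
      exact ((congrArg (c ^ n • ·) (QCohLib.app_map φ.hom (homOfLE (ha.trans a.2)) _)).symm.trans h3).trans
        (QCohLib.app_map φ.hom (homOfLE (hb.trans b.2)) _)
    refine ⟨?_, ?_⟩
    · rw [MiscFlat6.rX_rX, MiscFlat6.rX_rX]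
      exact h2
    · have hg : GenOn L (c • res L ha (e a)) := hc ▸ (he b).res hb
      obtain ⟨d, hd⟩ := (hg V le_rfl).2 (res L ha (e a))
      refine isUnit_iff_exists_inv'.2 ⟨d, (((he a).res ha) V le_rfl).1 ?_⟩
      simp only [res_refl, one_smul] at hd ⊢
      rw [mul_smul, hd]
  choose t ht using fun a b : G => ((he a) (i ⁻¹ᵁ (D a ⊓ D b)) (i.preimage_mono inf_le_left)).2
    (res L (i.preimage_mono inf_le_right) (e b))
  dsimp only at ht
  -- the transition functions on `X'`
  have hroot : ∀ a b : G, ∃! C, IsRoot i n (D a ⊓ D b)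
      (rX (inf_le_right : D a ⊓ D b ≤ D b) (w b) * ↑((hwu a).map (X'.presheaf.map (homOfLE (inf_le_left : D a ⊓ D b ≤ D a)).op).hom).unit⁻¹)
      (t a b) C := fun a b => by
    obtain ⟨hr1, hr2⟩ := hrel a b _ _ _ _ (ht a b)
    refine existsUnique_isRoot i hn _ _ _ hr2 ?_
    let U := (hwu a).map (X'.presheaf.map (homOfLE (inf_le_left : D a ⊓ D b ≤ D a)).op).hom
    refine ((U.map (i.app _).hom).mul_left_inj).mp ?_
    rw [← map_mul (i.app _).hom _ _]
    rw [mul_assoc, IsUnit.val_inv_mul, mul_one, show (i.app (D a ⊓ D b)).hom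
      ((X'.presheaf.map (homOfLE (inf_le_left : D a ⊓ D b ≤ D a)).op).hom (w a)) =
        rX (i.preimage_mono inf_le_left) ((i.app (D a)).hom (w a)) from app_map i _ _,
      show (i.app (D a ⊓ D b)).hom (rX (inf_le_right : D a ⊓ D b ≤ D b) (w b)) =
        rX (i.preimage_mono inf_le_right) ((i.app (D b)).hom (w b)) from app_map i _ _, hw, hw]
    exact hr1
  choose C hC hCuniq using hroot
  have hCw : ∀ (a b : G) (V : X'.Opens) (ha : V ≤ D a) (hb : V ≤ D b),
      rX (le_inf ha hb) (C a b) ^ n * rX ha (w a) = rX hb (w b) := fun a b V ha hb => by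
    have h1 : C a b ^ n * rX inf_le_left (w a) = rX inf_le_right (w b) := by
      rw [(hC a b).1, mul_assoc]
      exact (congrArg (_ * ·) (IsUnit.val_inv_mul _)).trans (mul_one _)
    have h2 := congrArg (rX (le_inf ha hb)) h1
    simp only [rX, map_mul, map_pow] at h2
    change rX _ (C a b) ^ n * rX _ (rX _ (w a)) = rX _ (rX _ (w b)) at h2
    rwa [MiscFlat6.rX_rX, MiscFlat6.rX_rX] at h2
  -- uniqueness of transition functions
  have huniq : ∀ (a b : G) (V : X'.Opens) (ha : V ≤ D a) (hb : V ≤ D b) (E : Γ(X', V)),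
      E ^ n * rX ha (w a) = rX hb (w b) →
      (i.app V).hom E • res L (i.preimage_mono ha) (e a) = res L (i.preimage_mono hb) (e b) →
      E = rX (le_inf ha hb) (C a b) := fun a b V ha hb E h1 h2 => by
    have h3 : (i.app V).hom (rX (le_inf ha hb) (C a b)) • res L (i.preimage_mono ha) (e a) =
        res L (i.preimage_mono hb) (e b) := by
      have h4 := congrArg (res L (i.preimage_mono (le_inf ha hb))) (ht a b)
      rw [res_smul, res_res, res_res] at h4
      rw [show (i.app V).hom (rX (le_inf ha hb) (C a b)) = rX (i.preimage_mono (le_inf ha hb)) (t a b) from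
        (app_map i _ _).trans (congrArg _ (hC a b).2)]
      simp only [e, res_res] at h4 ⊢
      exact h4
    have hwa : IsUnit (rX ha (w a)) := (hwu a).map _
    obtain ⟨-, hcu⟩ := hrel a b _ _ _ _ h2
    refine (existsUnique_isRoot i hn V (rX hb (w b) * ↑hwa.unit⁻¹) ((i.app V).hom E) hcu ?_).unique
      ⟨?_, rfl⟩ ⟨?_, (he a _ (i.preimage_mono ha)).1 (h3.trans h2.symm)⟩
    · rw [← h1, mul_assoc, IsUnit.mul_val_inv, mul_one, map_pow]
    · rw [← h1, mul_assoc, IsUnit.mul_val_inv, mul_one]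
    · rw [← hCw a b V ha hb, mul_assoc, IsUnit.mul_val_inv, mul_one]
  have hone : ∀ {V : X'.Opens}, (i.app V).hom (1 : Γ(X', V)) = 1 := fun {V} => map_one _
  let Cc : Cocycle G D :=
  { c := C
    self := fun a => by
      have := huniq a a (D a ⊓ D a) inf_le_left inf_le_right 1 (by rw [one_pow, one_mul])
        (by rw [hone, one_smul])
      exact (this.trans (congr($(X'.presheaf.map_id _) (C a a)))).symm
    trans := fun a b d V ha hb hd => by
      have hlin : ∀ (p q : G) (hp : V ≤ D p) (hq : V ≤ D q),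
          (i.app V).hom (rX (le_inf hp hq) (C p q)) • res L (i.preimage_mono hp) (e p) =
            res L (i.preimage_mono hq) (e q) := fun p q hp hq => by
        have h4 := congrArg (res L (i.preimage_mono (le_inf hp hq))) (ht p q)
        rw [res_smul, res_res, res_res] at h4
        rw [show (i.app V).hom (rX (le_inf hp hq) (C p q)) = rX (i.preimage_mono (le_inf hp hq)) (t p q) from
          (app_map i _ _).trans (congrArg _ (hC p q).2)]
        simp only [e, res_res] at h4 ⊢
        exact h4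
      refine huniq a d V ha hd _ ?_ ?_
      · rw [mul_pow, mul_comm (_ ^ n) (rX (le_inf hb hd) (C b d) ^ n), mul_assoc, hCw a b V ha hb, hCw b d V hb hd]
      · rw [map_mul, mul_comm, mul_smul, hlin a b ha hb, hlin b d hb hd] }
  let O' := Coh.structureModule X'
  let L' : X'.Modules := tw Cc O'
  let g : ∀ a : G, Γ(L', D a) := fun a => twUntriv (C := Cc) a le_rfl (show Γ(O', D a) from (1 : Γ(X', D a)))
  have hgres : ∀ (a : G) (V : X'.Opens) (hV : V ≤ D a) (b : G),
      twVal (res L' hV (g a)) b = rX (le_inf inf_le_right (inf_le_left.trans hV) : V ⊓ D b ≤ D b ⊓ D a) (C b a) :=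
    fun a V hV b => by
    rw [twVal_res]
    show res O' _ (rX _ (C b a) • res O' _ _) = _
    rw [res_smul, res_res, one_res]
    exact (smul_one_O _).trans (MiscFlat6.rX_rX _ _ _)
  have hgen : ∀ a, GenOn L' (g a) := fun a V hV => by
    constructor
    · intro r s hrs
      have h1 := congrArg (fun f => res O' (le_inf le_rfl hV : V ≤ V ⊓ D a) (twVal f a)) hrs
      have hval : ∀ r : Γ(X', V), res O' (le_inf le_rfl hV : V ≤ V ⊓ D a) (twVal (r • res L' hV (g a)) a) = r :=
        fun r => by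
        rw [twVal_smul, res_smul, hgres, show C a a = 1 from Cc.self a]
        rw [show rX (_ : V ⊓ D a ≤ D a ⊓ D a) (1 : Γ(X', D a ⊓ D a)) = 1 from map_one _, one_res, smul_one_O]
        exact (MiscFlat6.rX_rX _ _ _).trans (congr($(X'.presheaf.map_id _) r))
      simp only [hval] at h1
      exact h1
    · intro f
      refine ⟨res O' (le_inf le_rfl hV : V ≤ V ⊓ D a) (twVal f a), tw_ext fun b => ?_⟩
      rw [twVal_smul, hgres]
      have h1 := twVal_compat f b a (V := V ⊓ D b) le_rfl (le_inf inf_le_left (inf_le_left.trans hV))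
      rw [res_refl] at h1
      rw [h1]
      exact (mul_comm (G := Γ(X', V ⊓ D b)) _ _).trans (congr_arg₂ (· * ·) rfl (res_res O' _ _ _))
  have hgrel : ∀ (a b : G) (V : X'.Opens) (ha : V ≤ D a) (hb : V ≤ D b),
      rX (le_inf ha hb) (C a b) • res L' ha (g a) = res L' hb (g b) := fun a b V ha hb => tw_ext fun d => by
    rw [twVal_smul, hgres, hgres]
    show rX _ (rX _ (C a b)) * rX _ (C d a) = _
    rw [MiscFlat6.rX_rX]
    exact (mul_comm (G := Γ(X', V ⊓ D d)) _ _).trans
      (Cc.trans d a b (V ⊓ D d) inf_le_right (inf_le_left.trans ha) (inf_le_left.trans hb))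
  have hL' : PicF.IsInvertible L' := TwistLib.isInvertible_of_genOn D hcov g hgen
  refine ⟨L', hL', ?_, ?_⟩
  · obtain ⟨ψ, -⟩ := exists_iso_gens D (fun a => pS (g a) n) (fun a => (show Γ(O', D a) from w a)) hcov
      (fun a => pS_genOn (hgen a) n) (fun a => genOn_of_isUnit (hwu a)) fun a b V ha hb =>
      ⟨rX (le_inf ha hb) (C a b) ^ n, by rw [pS_res, pS_res, ← pS_smul, hgrel], hCw a b V ha hb⟩
    exact ⟨ψ⟩
  · obtain ⟨ψ, -⟩ := exists_iso_gens (fun a => i ⁻¹ᵁ D a) (fun a => puSecLE i L' le_rfl (g a)) e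
      (fun x => hcov (i x)) (fun a => genOn_puSecLE' i (hgen a) le_rfl) he fun a b V ha hb => by
      obtain ⟨W, hW, hWV⟩ := i.isEmbedding.isInducing.isOpen_iff.mp V.2
      let T : X'.Opens := ⟨W, hW⟩ ⊓ (D a ⊓ D b)
      have hVT : V ≤ i ⁻¹ᵁ T := fun y hy => ⟨show y ∈ i ⁻¹' W by rw [hWV]; exact hy, ha hy, hb hy⟩
      refine ⟨rX hVT ((i.app T).hom (rX (inf_le_right : T ≤ D a ⊓ D b) (C a b))), ?_, ?_⟩
      · have h1 := congrArg (puSecLE i L' hVT) (hgrel a b T (inf_le_right.trans inf_le_left) (inf_le_right.trans inf_le_right))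
        rw [puSecLE_smul, puSecLE_res', puSecLE_res'] at h1
        rw [res_puSecLE', res_puSecLE']
        exact h1
      · have h4 := congrArg (res L (hVT.trans (i.preimage_mono inf_le_right))) (ht a b)
        rw [res_smul, res_res, res_res] at h4
        rw [show (i.app T).hom (rX (inf_le_right : T ≤ D a ⊓ D b) (C a b)) =
          rX (i.preimage_mono inf_le_right) (t a b) from (app_map i _ _).trans (congrArg _ (hC a b).2),
          MiscFlat6.rX_rX]
        simp only [e, res_res] at h4 ⊢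
        exact h4
    exact ⟨ψ⟩

end PicTorsLib
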