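import Groth.Agent.S4477
import Groth.Agent.PerfCompLib.Theta
import Groth.Agent.AVIndexLib.TopPoinc
import Groth.Agent.NumTrivLib.Near
import Groth.Agent.NumTrivLib.BoundedProj
import Groth.Agent.CubeConsLib.IsoCls
import Groth.Agent.QCohLib.Push
import Mathlib.AlgebraicGeometry.AlgClosed.Basic

/-!
# Algebraic equivalence is trivial when `H¹(X, O) = 0`
-/

set_option autoImplicit false
set_option linter.style.haveILetI false
set_option maxHeartbeats 1000000
universe u

open CategoryTheory CategoryTheory.Limits AlgebraicGeometry TopologicalSpace Opposite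
open KFlatLib (pb)
open CubeConsLib (cl pull)

attribute [local instance] HasDerivedCategory.standard

noncomputable section

namespace PicTorsLib

variable {k : Type u} [Field k] [IsAlgClosed k] {X : Scheme.{u}} [X.Over (Spec (CommRingCat.of k))]
  [IsProper (X ↘ Spec (CommRingCat.of k))]

/-- `Hom(E, E) ≅ O` for `E ≅ O`. -/
theorem nonempty_sheafHom_self {Z : Scheme.{u}} {E : Z.Modules} [DCoh.HasSheafHom E]
    (e : E ≅ Coh.structureModule Z) :
    Nonempty ((DCoh.sheafHom E).obj E ≅ Coh.structureModule Z) := by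
  let ν : (DCoh.tensorBi (X := Z)).obj E ≅ 𝟭 _ := (DCoh.tensorBi (X := Z)).mapIso e ≪≫ PerfCompLib.tensUnitNat
  let r := (Adjunction.ofIsLeftAdjoint ((DCoh.tensorBi (X := Z)).obj E)).rightAdjointUniq
    (Adjunction.id.ofNatIsoLeft ν.symm)
  exact ⟨r.app E ≪≫ e⟩

/-- The class of the fibre is locally constant. -/
theorem exists_nhd {T : Scheme.{u}} (q : T ⟶ Spec (CommRingCat.of k)) [LocallyOfFiniteType q]
    (h1 : Subsingleton (Coh.HH X (Coh.structureModule X) 1)) {M : (Pic13.prodK k X q).Modules}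
    (hM : PicF.IsInvertible M) {y : T} (hy : IsClosed ({y} : Set T)) :
    ∃ (U : T.Opens) (c : CubeConsLib.IsoCls X), y ∈ U ∧
      ∀ (t : Spec (CommRingCat.of k) ⟶ T) (ht : t ≫ q = 𝟙 _), t default ∈ U →
        cl (Pic13.fibreMod k X q t ht M) = c := by
  haveI := LocallyOfFiniteType.isLocallyNoetherian q
  let t : Spec (CommRingCat.of k) ⟶ T := pointOfClosedPoint q y hy
  have ht : t ≫ q = 𝟙 _ := pointOfClosedPoint_comp _ _ _
  let f := pullback.snd (X ↘ Spec (CommRingCat.of k)) q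
  let s := Pic13.sliceAt k X q t ht
  let A := X ↘ Spec (CommRingCat.of k)
  let e := Spec.map (residueFieldIsoBase q y hy).hom
  have hsA : s ≫ pullback.fst A q = 𝟙 X := pullback.lift_fst _ _ _
  -- the fibre is the slice
  have hf : IsPullback (f.fiberι y) (f.fiberToSpecResidueField y) f (T.fromSpecResidueField y) :=
    IsPullback.of_hasPullback f (T.fromSpecResidueField y)
  have hs := NumTrivLib.isPullback_slice k X q t ht
  have hs' : IsPullback s (A ≫ e) f (T.fromSpecResidueField y) :=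
    IsPullback.of_iso hs (Iso.refl _) (Iso.refl _) (asIso e) (Iso.refl _)
      (by simp [s]) (by simp [A]) (by simp [f]) (by simp [t, e, pointOfClosedPoint])
  let c := (hf.isoIsPullback _ _ hs').hom
  have hc : c ≫ s = f.fiberι y := IsPullback.isoIsPullback_hom_fst _ _ hf hs'
  haveI : IsAffineHom c := inferInstance
  have h1' : Subsingleton (Coh.HH (f.fiber y) (Coh.structureModule (f.fiber y)) 1) := by
    haveI := (CurvLib.isInvertible_structureModule (X := f.fiber y))
    haveI : Coh.IsQCoh (Coh.structureModule (f.fiber y)) := (DevissLib.isCoh_structureModule _).1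
    obtain ⟨E⟩ := QCohLib.nonempty_HH_push c (Coh.structureModule (f.fiber y)) 1
    obtain ⟨i⟩ := AVIndexLib.iso_push_structure_of_isIso c
    haveI := SerreVanLib.subsingleton_HH_of_iso i 1 h1
    exact E.toEquiv.subsingleton
  -- the normalised family
  let B := Pic13.fibreMod k X q t ht M
  have hB : PicF.IsInvertible B := AmpleDevLib.isInvertible_pb s hM
  obtain ⟨d, hd⟩ := CubeConsLib.exists_inverse hB
  obtain ⟨B', hB'⟩ := NumTrivLib.exists_inverse hB
  let G := CohB1.tensorMod M (pb (pullback.fst A q) B')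
  have hB'i : PicF.IsInvertible B' := IntMultLib.isInvertible_of_inverse hB hB'.some
  have hG : PicF.IsInvertible G :=
    AmpleThLib.shT_isInvertible hM (AmpleDevLib.isInvertible_pb _ hB'i)
  have hBB : cl B * cl B' = 1 := by rw [← CubeConsLib.cl_tensor]; exact CubeConsLib.cl_eq_one_iff.2 hB'
  have hcl : ∀ (σ : X ⟶ Pic13.prodK k X q), σ ≫ pullback.fst A q = 𝟙 X →
      cl (pb σ G) = cl (pb σ M) * cl B' := fun σ hσ => by
    have h0 : pull σ (cl G) = pull σ (cl M) * pull σ (pull (pullback.fst A q) (cl B')) := by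
      rw [← map_mul]; rfl
    rw [CubeConsLib.pull_comp, hσ] at h0
    refine h0.trans (congrArg (_ * ·) ?_)
    exact CubeConsLib.cl_eq_iff.2 ⟨(Scheme.Modules.pullbackId X).app B'⟩
  have hfib : Nonempty (CohIII.fiberMod f G y ≅ Coh.structureModule (f.fiber y)) := by
    have h0 : pull c (pull s (cl G)) = 1 := by
      rw [show pull s (cl G) = 1 from (hcl s hsA).trans hBB, map_one]
    rw [CubeConsLib.pull_comp, hc] at h0
    exact CubeConsLib.cl_eq_one_iff.1 h0
  let e₀ : CohIII.fiberMod f (Coh.structureModule _) y ≅ Coh.structureModule (f.fiber y) :=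
    KFlatLib.pullUnitIso (f.fiberι y)
  haveI : DCoh.HasSheafHom (CohIII.fiberMod f (Coh.structureModule _) y) := CohCmpLib.hasSheafHom _
  haveI : Flat f := inferInstanceAs (Flat (pullback.snd (X ↘ Spec (CommRingCat.of k)) q))
  haveI : IsProper f := inferInstanceAs (IsProper (pullback.snd (X ↘ Spec (CommRingCat.of k)) q))
  obtain ⟨η⟩ := nonempty_sheafHom_self e₀
  obtain ⟨U, hyU, ⟨ρ⟩⟩ := Groth.Agent.S4477.result f y (Coh.structureModule _) G
    (CurveVBLib.isFinLocFree_of_rank (CurvLib.locFree_of_isInvertible CurvLib.isInvertible_structureModule))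
    (CurveVBLib.isFinLocFree_of_rank (CurvLib.locFree_of_isInvertible hG))
    (SerreVanLib.subsingleton_HH_of_iso η 1 h1') ⟨e₀ ≪≫ hfib.some.symm⟩
  refine ⟨U, cl B, hyU, fun t' ht' hmem => ?_⟩
  let s' := Pic13.sliceAt k X q t' ht'
  have hrange : Set.range s' ⊆ Set.range (f ⁻¹ᵁ U).ι := by
    rw [Scheme.Opens.range_ι]
    rintro _ ⟨x, rfl⟩
    have hx : f (s' x) = t' default := by
      rw [← Scheme.Hom.comp_apply, show s' ≫ f = A ≫ t' from pullback.lift_snd _ _ _, Scheme.Hom.comp_apply]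
      exact congrArg _ (Subsingleton.elim _ _)
    exact show f (s' x) ∈ U from hx.symm ▸ hmem
  let σ := IsOpenImmersion.lift (f ⁻¹ᵁ U).ι s' hrange
  have hσ : σ ≫ (f ⁻¹ᵁ U).ι = s' := IsOpenImmersion.lift_fac _ _ _
  have hone : pull (f ⁻¹ᵁ U).ι (cl G) = 1 := by
    refine CubeConsLib.cl_eq_one_iff.2 ⟨?_⟩
    exact ((Scheme.Modules.restrictFunctorIsoPullback _).app G).symm ≪≫ ρ.symm ≪≫
      (Scheme.Modules.restrictFunctorIsoPullback _).app _ ≪≫ KFlatLib.pullUnitIso _
  have h0 : pull s' (cl G) = 1 := by rw [← hσ, ← CubeConsLib.pull_comp, hone, map_one]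
  have hG' : cl (pb s' G) = cl (pb s' M) * cl B' := hcl s' (pullback.lift_fst _ _ _)
  have h2 : cl (pb s' M) * cl B' = 1 := hG'.symm.trans h0
  calc cl (pb s' M) = cl (pb s' M) * (cl B' * cl B) := by rw [mul_comm (cl B'), hBB, mul_one]
    _ = cl B := by rw [← mul_assoc, h2, one_mul]

/-- Algebraically trivial invertible modules are trivial. -/
theorem nonempty_iso_of_algEquiv (h1 : Subsingleton (Coh.HH X (Coh.structureModule X) 1)) {L : X.Modules}
    (h : Pic13.IsAlgEquivZero k X L) : Nonempty (L ≅ Coh.structureModule X) := by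
  obtain ⟨T, q, hconn, hft, hqc, M, hM, t, t₀, ht, ht₀, ⟨a⟩, ⟨b⟩⟩ := h
  haveI := hconn
  haveI := hft
  haveI : JacobsonSpace T := LocallyOfFiniteType.jacobsonSpace q
  let Good : CubeConsLib.IsoCls X → Prop := fun c => c = 1
  let V : (CubeConsLib.IsoCls X → Prop) → Set T := fun P => {y | ∃ U : T.Opens, y ∈ U ∧
    ∀ (t : Spec (CommRingCat.of k) ⟶ T) (ht : t ≫ q = 𝟙 _), t default ∈ U →
      P (cl (Pic13.fibreMod k X q t ht M))}
  have hopen : ∀ P, IsOpen (V P) := fun P => isOpen_iff_forall_mem_open.2 fun y ⟨U, hy, hU⟩ =>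
    ⟨U, fun z hz => ⟨U, hz, hU⟩, U.2, hy⟩
  have hpt : ∀ (Z : Set T), Z.Nonempty → IsLocallyClosed Z →
      ∃ (p : Spec (CommRingCat.of k) ⟶ T) (_ : p ≫ q = 𝟙 _), p default ∈ Z ∧ IsClosed ({p default} : Set T) := by
    intro Z hZ hZ'
    obtain ⟨y, hy, hc⟩ := nonempty_inter_closedPoints hZ hZ'
    refine ⟨pointOfClosedPoint q y hc, pointOfClosedPoint_comp _ _ _, ?_, ?_⟩
    · rw [pointOfClosedPoint_apply]; exact hy
    · rw [pointOfClosedPoint_apply]; exact hc
  have hcov : V (· = 1) ∪ V (· ≠ 1) = Set.univ := by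
    by_contra hne
    obtain ⟨p, hp, hpZ, hpc⟩ := hpt (V (· = 1) ∪ V (· ≠ 1))ᶜ (Set.nonempty_compl.2 hne)
      ((hopen (· = 1)).union (hopen (· ≠ 1))).isClosed_compl.isLocallyClosed
    obtain ⟨U, c, hyU, hU⟩ := exists_nhd q h1 hM hpc
    by_cases hc1 : c = 1
    · exact hpZ (Or.inl ⟨U, hyU, fun t ht hm => (hU t ht hm).trans hc1⟩)
    · exact hpZ (Or.inr ⟨U, hyU, fun t ht hm => by rw [hU t ht hm]; exact hc1⟩)
  have hdisj : V (· = 1) ∩ V (· ≠ 1) = ∅ := by
    by_contra hne
    obtain ⟨p, hp, ⟨⟨U, hU₁, hU⟩, ⟨U', hU₂, hU'⟩⟩, -⟩ := hpt _ (Set.nonempty_iff_ne_empty.2 hne)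
      ((hopen (· = 1)).inter (hopen (· ≠ 1))).isLocallyClosed
    exact hU' p hp hU₂ (hU p hp hU₁)
  have hmem₀ : t₀ default ∈ V (· = 1) := by
    rcases (hcov.symm ▸ Set.mem_univ (t₀ default) : t₀ default ∈ V (· = 1) ∪ V (· ≠ 1)) with h | ⟨U, hU, hU'⟩
    · exact h
    · exact absurd (CubeConsLib.cl_eq_one_iff.2 ⟨b⟩) (hU' t₀ ht₀ hU)
  have hclopen : IsClopen (V (· = 1)) := by
    refine ⟨?_, hopen (· = 1)⟩
    rw [show V (· = 1) = (V (· ≠ 1))ᶜ from Set.ext fun y => ⟨fun h h' => (hdisj.subset ⟨h, h'⟩).elim,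
      fun h => (hcov.symm ▸ Set.mem_univ y : y ∈ V (· = 1) ∪ V (· ≠ 1)).resolve_right h⟩]
    exact (hopen (· ≠ 1)).isClosed_compl
  obtain ⟨U, hU, hU'⟩ := ((hclopen.eq_univ ⟨_, hmem₀⟩).symm ▸ Set.mem_univ (t default) : t default ∈ V (· = 1))
  exact CubeConsLib.cl_eq_one_iff.1 ((CubeConsLib.cl_eq_iff.2 ⟨a.symm⟩).trans (hU' t ht hU))

end PicTorsLib

end
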