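import Groth.Agent.PicTorsLib.Connected
import Groth.Agent.BddFamLib.Main
import Groth.Agent.HilbPolyLib.BaseField
import Groth.Agent.DegPullLib.H0
import Groth.Agent.S14811
import Groth.Agent.S7671

/-!
# Numerically trivial classes are torsion when `H¹(X, O) = 0`
-/

set_option autoImplicit false
set_option linter.style.haveILetI false
set_option maxHeartbeats 1000000
universe u

open CategoryTheory CategoryTheory.Limits AlgebraicGeometry TopologicalSpace Opposite
open KFlatLib (pb)
open CubeConsLib (cl pull)

noncomputable section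

namespace PicTorsLib

/-- The functions on a proper scheme over a field have finitely many maximal ideals. -/
theorem finite_maximalSpectrum (k : Type u) [Field k] (X : Scheme.{u}) [X.Over (Spec (CommRingCat.of k))]
    [IsProper (X ↘ Spec (CommRingCat.of k))] : Finite (MaximalSpectrum Γ(X, ⊤)) := by
  haveI := CurvLib.isNoetherian k (X := X)
  letI : Algebra k Γ(X, ⊤) :=
    (show k →+* Γ(X, ⊤) from Coh.toGlobal (X ↘ Spec (CommRingCat.of k))).toAlgebra
  haveI : Module.Finite k Γ(X, ⊤) := by
    haveI := CurvLib.finite_HH (k := k) (DevissLib.isCoh_structureModule X) 0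
    refine Module.Finite.equiv (M := Coh.HH X (Coh.structureModule X) 0)
      ({ DegPullLib.e0 (Coh.structureModule X) with map_smul' := fun r x => ?_ } :
        Coh.HH X (Coh.structureModule X) 0 ≃ₗ[k] Γ(X, ⊤))
    exact DegPullLib.e0_smul (Coh.structureModule X) _ x
  haveI : IsArtinianRing Γ(X, ⊤) := IsArtinianRing.of_finite k Γ(X, ⊤)
  infer_instance

variable {k : Type u} [Field k] {X : Scheme.{u}} [X.Over (Spec (CommRingCat.of k))]
  [IsProper (X ↘ Spec (CommRingCat.of k))]

/-- Numerically trivial classes are torsion. -/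
theorem exists_pow_trivial (h1 : Subsingleton (Coh.HH X (Coh.structureModule X) 1)) {L : X.Modules}
    (hL : PicF.IsInvertible L) (hnum : Pic13.IsNumEquivZero k X L) :
    ∃ d : ℕ, 0 < d ∧ Nonempty (CohB1.tensorPow L d ≅ Coh.structureModule X) := by
  let K := AlgebraicClosure k
  letI := HilbPolyLib.bcOver (k := k) (X := X) K
  let g := Curv2.bcFst k X K
  haveI : IsProper (Curv2.bc k X K ↘ Spec (CommRingCat.of K)) :=
    inferInstanceAs (IsProper (pullback.snd (X ↘ Spec (CommRingCat.of k)) _))
  haveI := CurvLib.isNoetherian k (X := X)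
  haveI := CurvLib.isNoetherian K (X := Curv2.bc k X K)
  have h1' : Subsingleton (Coh.HH (Curv2.bc k X K) (Coh.structureModule _) 1) := by
    haveI := CurvLib.finite_HH (k := K) (DevissLib.isCoh_structureModule (Curv2.bc k X K)) 1
    refine (Module.finrank_zero_iff (R := K)).mp ?_
    rw [← (CurvLib.hIso (k := K) (KFlatLib.pullUnitIso g) 1).finrank_eq]
    exact (HilbPolyLib.finrank_HH_bc K (DevissLib.isCoh_structureModule X).1 1).trans
      Module.finrank_zero_of_subsingleton
  have hNT : NumTrivLib.NT K (pb g L) :=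
    NumTrivLib.NT.of_isNumEquivZero (AmpleDevLib.isInvertible_pb g hL)
      ((Groth.Agent.S14811.result k X L hL K).1 hnum)
  obtain ⟨n, hn, halg⟩ := BddFamLib.tau_of_NT K hNT
  obtain ⟨e⟩ := nonempty_iso_of_algEquiv h1' halg
  refine ⟨n, hn, Groth.Agent.S7671.result k K X (X ↘ Spec (CommRingCat.of k)) (finite_maximalSpectrum k X)
    (CohB1.tensorPow L n) (AmpleThLib.tensorPow_isInvertible hL n) ?_⟩
  refine CubeConsLib.cl_eq_one_iff.1 ?_
  have h0 : pull g (cl (CohB1.tensorPow L n)) = 1 := by
    rw [NumTrivLib.cl_tensorPow, map_pow, CubeConsLib.pull_cl, ← NumTrivLib.cl_tensorPow]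
    exact CubeConsLib.cl_eq_one_iff.2 ⟨e⟩
  exact h0

end PicTorsLib

end
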